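import Mathlib
import Groth.Agent.S9765
import Groth.Agent.S7591
import Groth.Agent.S9734

set_option autoImplicit false
universe u
open AlgebraicGeometry CategoryTheory Limits

namespace Groth.Agent.Helper19.GeomConnEt

theorem forward {X S : Scheme.{u}} (f : X ⟶ S) (s : S)
    (h : GeometricallyConnected (f.fiberToSpecResidueField s))
    (U : Scheme.{u}) (g : U ⟶ S) (u : U) (hu : g u = s) :
    ConnectedSpace ↑((pullback.snd f g).fiber u) := by
  have hset := Groth.Agent.S9765.result f g (pullback.snd f g) (pullback.fst f g)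
    (IsPullback.of_hasPullback f g)
  have hmem : u ∈ g ⁻¹' {y : ↑S | GeometricallyConnected (f.fiberToSpecResidueField y)} := by
    show GeometricallyConnected (f.fiberToSpecResidueField (g u))
    rw [hu]; exact h
  rw [← hset] at hmem
  haveI : GeometricallyConnected ((pullback.snd f g).fiberToSpecResidueField u) := hmem
  exact GeometricallyConnected.connectedSpace_of_subsingleton
    ((pullback.snd f g).fiberToSpecResidueField u)

/-- transfer of connectedness between two pullbacks along isomorphic field maps -/
theorem connectedSpace_of_isPullback_of_iso {F Z K K' P : Scheme.{u}} (φ : F ⟶ Z) (a : K ⟶ Z)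
    (b : K' ⟶ Z) (e : K ≅ K') (he : e.hom ≫ b = a) {p₁ : P ⟶ F} {p₂ : P ⟶ K}
    (sq : IsPullback p₁ p₂ φ a) (hP : ConnectedSpace P) : ConnectedSpace ↑(pullback φ b) := by
  have sq' : IsPullback p₁ (p₂ ≫ e.hom) φ b :=
    IsPullback.of_iso sq (Iso.refl P) (Iso.refl F) e (Iso.refl Z) (by simp) (by simp) (by simp)
      (by simp [he])
  rw [← sq'.isoPullback.hom.homeomorph.connectedSpace_iff]
  infer_instance

theorem backward {X S : Scheme.{u}} (f : X ⟶ S) (s : S)
    (H : ∀ (U : Scheme.{u}) (g : U ⟶ S) (u : U), Etale g → g u = s →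
      ConnectedSpace ↑((pullback.snd f g).fiber u)) :
    GeometricallyConnected (f.fiberToSpecResidueField s) := by
  letI : (f.fiber s).Over (Spec (CommRingCat.of (S.residueField s))) :=
    ⟨f.fiberToSpecResidueField s⟩
  show GeometricallyConnected ((f.fiber s) ↘ Spec (CommRingCat.of (S.residueField s)))
  rw [Groth.Agent.S7591.result (S.residueField s) (f.fiber s)]
  intro k' _ _ _ _
  obtain ⟨U, g, u, hu, hget, hiso⟩ := Groth.Agent.S9734.result S s k'
  subst hu
  letI alg : Algebra (S.residueField (g u)) (U.residueField u) :=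
    ((S.residueFieldCongr rfl).inv ≫ g.residueFieldMap u).hom.toAlgebra
  obtain ⟨e⟩ : Nonempty (k' ≃ₐ[S.residueField (g u)] U.residueField u) := hiso
  have hconn := H U g u hget rfl
  have sq := isPullback_fiberToSpecResidueField_of_isPullback (IsPullback.of_hasPullback f g) u
  -- Spec κ(u) ≅ Spec k'
  let eS : Spec (U.residueField u) ≅ Spec (CommRingCat.of k') :=
    Scheme.Spec.mapIso (e.toRingEquiv.toCommRingCatIso).op
  refine connectedSpace_of_isPullback_of_iso (f.fiberToSpecResidueField (g u))
    (Spec.map (g.residueFieldMap u))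
    (Spec.map (CommRingCat.ofHom (algebraMap (S.residueField (g u)) k'))) eS ?_ sq hconn
  have hcongr : (S.residueFieldCongr (rfl : g u = g u)).inv = 𝟙 _ := by
    simp [Scheme.residueFieldCongr]
  have hring : CommRingCat.ofHom (algebraMap (S.residueField (g u)) k') ≫
      e.toRingEquiv.toCommRingCatIso.hom = g.residueFieldMap u := by
    ext x
    have := e.commutes x
    simp only [CommRingCat.hom_comp, RingHom.coe_comp, Function.comp_apply]
    change e (algebraMap _ k' x) = _
    rw [this, RingHom.algebraMap_toAlgebra, hcongr, Category.id_comp]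
  show Spec.map _ ≫ Spec.map _ = _
  rw [← Spec.map_comp]
  exact congrArg Spec.map hring

end Groth.Agent.Helper19.GeomConnEt
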